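import Groth.Prelude.Def_HopfRep
import Groth.Prelude.Def_GLin4
import Groth.Agent.Lib.Comodule.Basic
import Groth.Agent.Lib.PsRefl28.Stab
import Mathlib.RingTheory.HopfAlgebra.Basic
import Mathlib.RingTheory.FiniteType

/-!
# Affine algebraic groups are linear
-/

set_option autoImplicit false
universe u

open TensorProduct CoordGrp

namespace Groth.Agent.HopfGL23

variable {k A : Type u} [Field k] [CommRing A] [HopfAlgebra k A] {n : ℕ}

lemma antipode_mul_eq_one (c : Matrix (Fin n) (Fin n) A)
    (hc : ∀ i j, CoalgebraStruct.comul (R := k) (c i j) = ∑ l, c i l ⊗ₜ[k] c l j)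
    (hε : ∀ i j, CoalgebraStruct.counit (R := k) (c i j) = if i = j then (1 : k) else 0) :
    c.map (HopfAlgebra.antipode k) * c = 1 := by
  refine Matrix.ext fun i j => ?_
  rw [Matrix.mul_apply, Matrix.one_apply]
  have h := HopfAlgebra.mul_antipode_rTensor_comul_apply (R := k) (c i j)
  rw [hc, hε, map_sum, map_sum] at h
  simp only [LinearMap.rTensor_tmul, LinearMap.mul'_apply] at h
  simp only [Matrix.map_apply]
  rw [h]
  split_ifs <;> simp

/-- A matrix comultiplicative family gives a homomorphism to `GL_n`. -/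
theorem exists_hom (c : Matrix (Fin n) (Fin n) A)
    (hc : ∀ i j, CoalgebraStruct.comul (R := k) (c i j) = ∑ l, c i l ⊗ₜ[k] c l j)
    (hε : ∀ i j, CoalgebraStruct.counit (R := k) (c i j) = if i = j then (1 : k) else 0) :
    ∃ π : GLn n k →ₐc[k] A, ∀ i j, π (GLn.X i j) = c i j := by
  set d := (c.map (HopfAlgebra.antipode k)).det with hd
  have hdc : d * c.det = 1 := by rw [hd, ← Matrix.det_mul, antipode_mul_eq_one c hc hε, Matrix.det_one]
  have hΔ : CoalgebraStruct.comul (R := k) c.det = c.det ⊗ₜ[k] c.det := by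
    change Bialgebra.comulAlgHom k A c.det = _
    rw [AlgHom.map_det]
    have e : (Bialgebra.comulAlgHom k A).mapMatrix c =
        (Algebra.TensorProduct.includeLeft : A →ₐ[k] A ⊗[k] A).mapMatrix c *
          (Algebra.TensorProduct.includeRight : A →ₐ[k] A ⊗[k] A).mapMatrix c := by
      refine Matrix.ext fun i j => ?_
      rw [Matrix.mul_apply]
      change CoalgebraStruct.comul (R := k) (c i j) = _
      rw [hc]
      simp [Algebra.TensorProduct.tmul_mul_tmul]
    rw [e, Matrix.det_mul, ← AlgHom.map_det, ← AlgHom.map_det]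
    simp [Algebra.TensorProduct.tmul_mul_tmul]
  have hεd : CoalgebraStruct.counit (R := k) d = 1 := by
    have h0 : Bialgebra.counitAlgHom k A c.det = 1 := by
      rw [AlgHom.map_det, show (Bialgebra.counitAlgHom k A).mapMatrix c = 1 from Matrix.ext fun i j => by
        rw [Matrix.one_apply]; exact hε i j, Matrix.det_one]
    have h1 := congrArg (Bialgebra.counitAlgHom k A) hdc
    rw [map_mul, h0, mul_one, map_one] at h1
    exact h1
  have hΔd : CoalgebraStruct.comul (R := k) d = d ⊗ₜ[k] d := by
    have h1 : Bialgebra.comulAlgHom k A d * (c.det ⊗ₜ[k] c.det) = 1 := by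
      rw [← hΔ]
      change Bialgebra.comulAlgHom k A d * Bialgebra.comulAlgHom k A c.det = 1
      rw [← map_mul, hdc, map_one]
    have h2 : (d ⊗ₜ[k] d) * (c.det ⊗ₜ[k] c.det) = 1 := by
      rw [Algebra.TensorProduct.tmul_mul_tmul, hdc]; rfl
    exact left_inv_eq_right_inv h1 (by rwa [mul_comm] at h2)
  let f : GLn n k →ₐ[k] A := Ideal.Quotient.liftₐ (GLb.relIdeal n k) (GLb.aeval n k c d) (fun a ha => by
    obtain ⟨b, rfl⟩ := Ideal.mem_span_singleton'.mp ha
    rw [map_mul, GLb.rel, map_sub, map_mul, map_one, GLb.det, AlgHom.map_det, GLb.aeval_mapMatrix_genMat,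
      GLb.aeval_D, mul_comm c.det, hdc, sub_self, mul_zero])
  have hX : ∀ i j, f (GLn.X i j) = c i j := fun i j => GLb.aeval_X c d i j
  have hD : f GLn.Dinv = d := GLb.aeval_D c d
  refine ⟨BialgHom.ofAlgHom f ?_ ?_, hX⟩
  · refine Ideal.Quotient.algHom_ext k (GLb.algHom_ext (fun i j => ?_) ?_)
    · show CoalgebraStruct.counit (R := k) (f (GLn.X i j)) = CoalgebraStruct.counit (R := k) (GLn.X i j : GLn n k)
      rw [hX, hε, GLn.counit_X]
    · show CoalgebraStruct.counit (R := k) (f GLn.Dinv) = CoalgebraStruct.counit (R := k) (GLn.Dinv : GLn n k)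
      rw [hD, hεd, GLn.counit_Dinv]
  · refine Ideal.Quotient.algHom_ext k (GLb.algHom_ext (fun i j => ?_) ?_)
    · show Algebra.TensorProduct.map f f (CoalgebraStruct.comul (R := k) (GLn.X i j)) =
        CoalgebraStruct.comul (R := k) (f (GLn.X i j))
      rw [hX, hc, GLn.comul_X, map_sum]
      simp [hX]
    · show Algebra.TensorProduct.map f f (CoalgebraStruct.comul (R := k) GLn.Dinv) =
        CoalgebraStruct.comul (R := k) (f GLn.Dinv)
      rw [hD, hΔd, GLn.comul_Dinv]
      simp [hD]

/-- An affine algebraic group is a closed subgroup of some `GL_n`. -/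
theorem exists_surjective [Algebra.FiniteType k A] :
    ∃ (n : ℕ) (π : GLn n k →ₐc[k] A), Function.Surjective π := by
  classical
  obtain ⟨s, hs⟩ := (Algebra.FiniteType.out : (⊤ : Subalgebra k A).FG)
  choose N hN hfin hmem using fun v : A => Comodule.exists_finite_subcomod (k := k) (A := A) (V := A) v
  let W : Submodule k A := ⨆ v : s, N v
  have hW : HopfRep.IsSubcomod (k := k) (A := A) W := Comodule.isSubcomod_iSup _ fun v => hN v
  haveI : Module.Finite k W := Submodule.finite_iSup _
  let b := Module.finBasis k W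
  choose z hz using fun j => hW (b j : A) (b j).2
  let c : Matrix (Fin (Module.finrank k W)) (Fin (Module.finrank k W)) A := fun i j =>
    TensorProduct.equivFinsuppOfBasisLeft (N := A) b (z j) i
  have hΔb : ∀ j, CoalgebraStruct.comul (R := k) (b j : A) = ∑ i, (b i : A) ⊗ₜ[k] c i j := fun j => by
    rw [show CoalgebraStruct.comul (R := k) (b j : A) = W.subtype.rTensor A (z j) from (hz j).symm,
      ← (TensorProduct.equivFinsuppOfBasisLeft (N := A) b).symm_apply_apply (z j),
      TensorProduct.equivFinsuppOfBasisLeft_symm_apply, Finsupp.sum_fintype _ _ (fun i => by simp), map_sum]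
    simp [c]
  choose θ hθ using fun l => (b.coord l).exists_extend
  have hθb : ∀ l i, θ l (b i : A) = if i = l then 1 else 0 := fun l i => by
    rw [show θ l (b i : A) = b.coord l (b i) from LinearMap.congr_fun (hθ l) (b i), Module.Basis.coord_apply,
      b.repr_self, Finsupp.single_apply]
  have hε : ∀ i j, CoalgebraStruct.counit (R := k) (c i j) = if i = j then (1 : k) else 0 := by
    intro l j
    have h := congrArg (fun t => θ l (TensorProduct.rid k A t))
      (Coalgebra.lTensor_counit_comul (R := k) (b j : A))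
    simp only [hΔb, map_sum, LinearMap.lTensor_tmul, TensorProduct.rid_tmul, map_smul, smul_eq_mul, hθb,
      mul_ite, mul_one, mul_zero, Finset.sum_ite_eq', Finset.mem_univ, if_true, one_mul] at h
    rw [h]
    simp [eq_comm]
  have hc : ∀ i j, CoalgebraStruct.comul (R := k) (c i j) = ∑ l, c i l ⊗ₜ[k] c l j := by
    intro l j
    have h := congrArg (PsRefl28.slice (θ l)) (Coalgebra.coassoc_apply (R := k) (b j : A))
    simp only [hΔb, map_sum, LinearMap.rTensor_tmul, LinearMap.lTensor_tmul, TensorProduct.sum_tmul,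
      TensorProduct.assoc_tmul, PsRefl28.slice_tmul, hθb, ite_smul, one_smul, zero_smul] at h
    simp only [Finset.sum_ite_eq', Finset.mem_univ, if_true, LinearEquiv.coe_coe, map_sum] at h
    exact h.symm
  obtain ⟨π, hπ⟩ := exists_hom c hc hε
  refine ⟨_, π, ?_⟩
  have hle : W ≤ Subalgebra.toSubmodule (AlgHom.range (π : GLn (Module.finrank k W) k →ₐ[k] A)) := by
    intro w hw
    have hbj : ∀ j, (b j : A) ∈ AlgHom.range (π : GLn (Module.finrank k W) k →ₐ[k] A) := fun j => by
      have h := congrArg (TensorProduct.lid k A) (Coalgebra.rTensor_counit_comul (R := k) (b j : A))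
      rw [hΔb, map_sum, map_sum] at h
      simp only [LinearMap.rTensor_tmul, TensorProduct.lid_tmul, one_smul] at h
      rw [← h]
      exact Subalgebra.sum_mem _ fun i _ => Subalgebra.smul_mem _ ((AlgHom.mem_range _).2 ⟨GLn.X i j, hπ i j⟩) _
    have e : (⟨w, hw⟩ : W) = _ := (b.sum_repr ⟨w, hw⟩).symm
    have e' := congrArg Subtype.val e
    simp only [Submodule.coe_sum, Submodule.coe_smul] at e'
    rw [e']
    exact Submodule.sum_mem _ fun i _ => Submodule.smul_mem _ _ (hbj i)
  have htop : AlgHom.range (π : GLn (Module.finrank k W) k →ₐ[k] A) = ⊤ := by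
    rw [← top_le_iff, ← hs, Algebra.adjoin_le_iff]
    exact fun v hv => hle (le_iSup (fun v : s => N v) ⟨v, hv⟩ (hmem v))
  exact fun a => AlgHom.mem_range (π : GLn (Module.finrank k W) k →ₐ[k] A) |>.1 (htop ▸ Algebra.mem_top : a ∈ _)

end Groth.Agent.HopfGL23
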